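import Groth.Agent.SteinX.Factor

/-!
# Idempotents of the fibres of a proper morphism lift to the stalks of the direct image
-/

universe u

set_option linter.style.haveILetI false
set_option backward.isDefEq.respectTransparency false
set_option backward.isDefEq.respectTransparency.types false

open CategoryTheory CategoryTheory.Limits AlgebraicGeometry TopologicalSpace Opposite

namespace Groth.Agent.IdemFibre7

/-- A section of an affine fibre is a section upstairs divided by a section of the base. -/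
theorem exists_frac {P V T F : Scheme.{u}} [IsAffine P] [IsAffine V] [IsAffine T] {ι : F ⟶ P} {q : F ⟶ T}
    {π : P ⟶ V} {g : T ⟶ V} (h : IsPullback ι q π g)
    (hg : ∀ c : Γ(T, ⊤), ∃ a d : Γ(V, ⊤), IsUnit (g.appTop d) ∧ c * g.appTop d = g.appTop a)
    (x : Γ(F, ⊤)) :
    ∃ (b : Γ(P, ⊤)) (d : Γ(V, ⊤)), IsUnit (g.appTop d) ∧ x * ι.appTop (π.appTop d) = ι.appTop b := by
  have hpo := isPushout_appTop_of_isPullback h
  algebraize [π.appTop.hom, g.appTop.hom, ι.appTop.hom, q.appTop.hom, (π.appTop ≫ ι.appTop).hom]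
  haveI : IsScalarTower Γ(V, ⊤) Γ(P, ⊤) Γ(F, ⊤) := .of_algebraMap_eq fun _ => rfl
  haveI : IsScalarTower Γ(V, ⊤) Γ(T, ⊤) Γ(F, ⊤) := .of_algebraMap_eq fun a =>
    congr($(hpo.w) a)
  have hbc : Algebra.IsPushout Γ(V, ⊤) Γ(P, ⊤) Γ(T, ⊤) Γ(F, ⊤) :=
    (CommRingCat.isPushout_iff_isPushout).1 hpo
  induction x using hbc.out.inductionOn with
  | zero => exact ⟨0, 1, by simp, by simp⟩
  | tmul c =>
    obtain ⟨a, d, hd, hc⟩ := hg c
    refine ⟨π.appTop a, d, hd, ?_⟩
    show q.appTop c * ι.appTop (π.appTop d) = ι.appTop (π.appTop a)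
    have e : ∀ z, ι.appTop (π.appTop z) = q.appTop (g.appTop z) := fun z => congr($(hpo.w) z)
    rw [e, e, ← map_mul, hc]
  | smul p x ih =>
    obtain ⟨b, d, hd, hx⟩ := ih
    refine ⟨p * b, d, hd, ?_⟩
    rw [Algebra.smul_def, mul_assoc, hx, map_mul]
    rfl
  | add x y ih₁ ih₂ =>
    obtain ⟨b, d, hd, hx⟩ := ih₁
    obtain ⟨b', d', hd', hy⟩ := ih₂
    refine ⟨b * π.appTop d' + b' * π.appTop d, d * d', by rw [map_mul]; exact hd.mul hd', ?_⟩
    simp only [map_mul, map_add, ← hx, ← hy]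
    ring

/-- Idempotents with the same non-vanishing locus are equal. -/
theorem idem_ext {X : Scheme.{u}} [CompactSpace X] {u w : Γ(X, ⊤)} (hu : IsIdempotentElem u)
    (hw : IsIdempotentElem w) (h : X.basicOpen u = X.basicOpen w) : u = w := by
  have key : ∀ a b : Γ(X, ⊤), IsIdempotentElem a → IsIdempotentElem b →
      X.basicOpen a = X.basicOpen b → a = a * b := fun a b ha hb hab => by
    have hd : IsIdempotentElem (a * (1 - b)) := ha.mul hb.one_sub
    have h0 : X.basicOpen (a * (1 - b)) = ⊥ := by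
      rw [Scheme.basicOpen_mul, hab, ← Scheme.basicOpen_mul, mul_sub, mul_one, hb.eq, sub_self,
        Scheme.basicOpen_zero]
    have := hd.eq_zero_of_isNilpotent ((X.isNilpotent_iff_basicOpen_eq_bot _).2 h0)
    rwa [mul_sub, mul_one, sub_eq_zero] at this
  rw [key u w hu hw h]
  exact (mul_comm u w).trans (key w u hw hu h.symm).symm

/-- A closed surjection with connected fibres maps idempotents to idempotents of an affine target. -/
theorem exists_idem {X F : Scheme.{u}} [CompactSpace X] [IsAffine F] (h : X ⟶ F)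
    [UniversallyClosed h] [GeometricallyConnected h] {e : Γ(X, ⊤)} (he : IsIdempotentElem e) :
    ∃ e' : Γ(F, ⊤), IsIdempotentElem e' ∧ h.appTop e' = e := by
  have hcl : IsClopen (X.basicOpen e : Set X) := by
    refine ⟨?_, (X.basicOpen e).2⟩
    have hc : (X.basicOpen e : Set X)ᶜ = X.basicOpen (1 - e) := by
      ext x
      simp only [Set.mem_compl_iff, SetLike.mem_coe, Scheme.mem_basicOpen_top, map_sub, map_one]
      let z := X.presheaf.germ ⊤ x trivial e
      have hz : z * (1 - z) = 0 := by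
        have h1 : e * (1 - e) = 0 := by rw [mul_sub, mul_one, he.eq, sub_self]
        have := congrArg (X.presheaf.germ ⊤ x trivial) h1
        rwa [map_mul, map_sub, map_one, map_zero] at this
      change ¬ IsUnit z ↔ IsUnit (1 - z)
      constructor
      · exact fun hn => IsLocalRing.isUnit_one_sub_self_of_mem_nonunits z hn
      · intro h1 h2
        exact not_isUnit_zero (hz ▸ h2.mul h1)
    rw [← isOpen_compl_iff, hc]
    exact (X.basicOpen (1 - e)).2
  let C := (X.basicOpen e : Set X)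
  have hsat : ∀ a ∈ C, ∀ b, h a = h b → b ∈ C := fun a ha b hab =>
    ((h.isConnected_preimage_singleton (h a)).isPreconnected.subset_isClopen hcl ⟨a, rfl, ha⟩) hab.symm
  have hE : IsClopen (h '' C) := by
    refine ⟨h.isClosedMap _ hcl.1, isClosed_compl_iff.1 ?_⟩
    rw [show (h '' C)ᶜ = h '' Cᶜ from ?_]
    · exact h.isClosedMap _ hcl.compl.1
    ext y
    constructor
    · intro hy
      obtain ⟨b, rfl⟩ := h.surjective y
      exact ⟨b, fun hb => hy ⟨b, hb, rfl⟩, rfl⟩
    · rintro ⟨b, hb, rfl⟩ ⟨a, ha, hab⟩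
      exact hb (hsat a ha b hab)
  let i := F.isoSpec.hom
  obtain ⟨e', ⟨he', heq⟩, -⟩ := PrimeSpectrum.existsUnique_idempotent_basicOpen_eq_of_isClopen
    (s := i '' (h '' C)) ⟨i.homeomorph.isClosedMap _ hE.1, i.homeomorph.isOpenMap _ hE.2⟩
  refine ⟨e', he', idem_ext (he'.map h.appTop.hom) he (Opens.ext ?_)⟩
  rw [← Scheme.preimage_basicOpen_top, Opens.map_coe]
  have h1 : (F.basicOpen e' : Set F) = h '' C := by
    rw [← Scheme.toSpecΓ_preimage_basicOpen, Opens.map_coe]
    show i ⁻¹' _ = _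
    erw [← heq]
    exact Set.preimage_image_eq _ i.homeomorph.injective
  rw [h1]
  exact Set.Subset.antisymm (fun b ⟨a, ha, hab⟩ => hsat a ha b hab) fun b hb => ⟨b, hb, rfl⟩

/-- Sections of an affine open at a point. -/
theorem appTop_eq_evaluation {S : Scheme.{u}} {V : S.Opens} {s : S} (hs : s ∈ V)
    {g : Spec (S.residueField s) ⟶ V} (hg : g ≫ V.ι = S.fromSpecResidueField s) (a : Γ(S, V)) :
    g.appTop (V.topIso.inv a) = (Scheme.ΓSpecIso (S.residueField s)).inv (S.evaluation V s hs a) := by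
  have h1 : g ≫ V.toSpecΓ = Spec.map (S.evaluation V s hs) := by
    have h2 : g = Spec.map (S.residue s) ≫ V.fromSpecStalkOfMem s hs := by
      rw [← cancel_mono V.ι, hg, Category.assoc, Scheme.Opens.fromSpecStalkOfMem_ι]
      rfl
    rw [h2, Category.assoc, Scheme.Opens.fromSpecStalkOfMem_toSpecΓ, ← Spec.map_comp]
    rfl
  have h3 := congrArg Scheme.Hom.appTop h1
  rw [Scheme.Hom.comp_appTop] at h3
  have h4 := ((Scheme.ΓSpecIso Γ(S, V)).inv ≫= h3)
  rw [← Scheme.ΓSpecIso_inv_naturality] at h4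
  rw [Scheme.Opens.toSpecΓ_appTop, Category.assoc, Iso.inv_hom_id_assoc] at h4
  exact congr($h4 a)

/-- The residue field of a point of an affine open consists of fractions. -/
theorem exists_frac_residue {S : Scheme.{u}} {V : S.Opens} (hV : IsAffineOpen V) {s : S} (hs : s ∈ V)
    {g : Spec (S.residueField s) ⟶ V} (hg : g ≫ V.ι = S.fromSpecResidueField s)
    (c : Γ(Spec (S.residueField s), ⊤)) :
    ∃ a d : Γ(V.toScheme, ⊤), IsUnit (g.appTop d) ∧ c * g.appTop d = g.appTop a := by
  let k := S.residueField s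
  have key := appTop_eq_evaluation hs hg
  letI : Algebra Γ(S, V) (S.presheaf.stalk s) := (S.presheaf.germ V s hs).hom.toAlgebra
  haveI := hV.isLocalization_stalk ⟨s, hs⟩
  obtain ⟨z, hz⟩ := S.residue_surjective s ((Scheme.ΓSpecIso k).hom c)
  obtain ⟨⟨a, d⟩, had⟩ := IsLocalization.surj (hV.primeIdealOf ⟨s, hs⟩).asIdeal.primeCompl z
  have hd : IsUnit (S.evaluation V s hs d.1) :=
    (IsLocalization.map_units (S.presheaf.stalk s) d).map (S.residue s).hom
  refine ⟨V.topIso.inv a, V.topIso.inv d.1, ?_, ?_⟩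
  · rw [key]
    exact hd.map (Scheme.ΓSpecIso k).inv.hom
  · rw [key, key, show c = (Scheme.ΓSpecIso k).inv (S.residue s z) by rw [hz, Iso.hom_inv_id_apply],
      show S.evaluation V s hs a = S.residue s (algebraMap _ _ a) from rfl, ← had, map_mul, map_mul]
    rfl

/-- Idempotents of a fibre of a proper morphism lift. -/
theorem exists_lift {X S : Scheme.{u}} (f : X ⟶ S) [IsProper f] (s : S)
    (e : Γ(f.fiber s, ⊤)) (he : IsIdempotentElem e) :
    ∃ (V : S.Opens) (_ : s ∈ V) (t : Γ(X, f ⁻¹ᵁ V)),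
      (f.fiberι s).app (f ⁻¹ᵁ V) t = (f.fiber s).presheaf.map (homOfLE le_top).op e := by
  obtain ⟨V, hV, hsV, -⟩ := exists_isAffineOpen_mem_and_subset (x := s) (U := (⊤ : S.Opens)) trivial
  let π := f.fromNormalization
  let h := f.toNormalization
  haveI : IsProper h := SteinX.isProper_toNormalization f
  haveI : GeometricallyConnected h := SteinX.geometricallyConnected_toNormalization f
  let g := S.fromSpecResidueField s
  let P := π ⁻¹ᵁ V
  haveI : IsAffine V.toScheme := hV
  haveI : IsAffine P.toScheme := hV.preimage π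
  let g₀ : Spec (S.residueField s) ⟶ V.toScheme := IsOpenImmersion.lift V.ι g (by
    rw [show Set.range g.base = {s} from Scheme.range_fromSpecResidueField s, Set.singleton_subset_iff]
    exact ⟨⟨s, hsV⟩, rfl⟩)
  have hg₀ : g₀ ≫ V.ι = g := IsOpenImmersion.lift_fac _ _ _
  have hp := (isPullback_morphismRestrict π V).flip
  let ι₀ := hp.lift (pullback.fst π g) (pullback.snd π g ≫ g₀) (by rw [Category.assoc, hg₀, pullback.condition])
  have hι₀ : ι₀ ≫ P.ι = pullback.fst π g := hp.lift_fst _ _ _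
  have hsq : IsPullback ι₀ (pullback.snd π g) (π ∣_ V) g₀ :=
    IsPullback.of_right (by rw [hι₀, hg₀]; exact IsPullback.of_hasPullback π g) (hp.lift_snd _ _ _) hp
  haveI : IsAffine (pullback π g) := .of_isPullback hsq
  let hs : f.fiber s ⟶ pullback π g :=
    pullback.lift (f.fiberι s ≫ h) (f.fiberToSpecResidueField s)
      (by rw [Category.assoc, Scheme.Hom.toNormalization_fromNormalization]; exact f.fiber_fac s)
  have hh : IsPullback (f.fiberι s) hs h (pullback.fst π g) :=
    IsPullback.of_bot (by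
      rw [pullback.lift_snd, Scheme.Hom.toNormalization_fromNormalization]
      exact IsPullback.of_hasPullback f g) (pullback.lift_fst _ _ _).symm (IsPullback.of_hasPullback π g)
  haveI : IsProper hs := MorphismProperty.of_isPullback hh inferInstance
  haveI : GeometricallyConnected hs := MorphismProperty.of_isPullback hh inferInstance
  obtain ⟨e', -, he'⟩ := exists_idem hs he
  obtain ⟨b, d, hd, hb⟩ := exists_frac hsq (fun c => exists_frac_residue hV hsV hg₀ c) e'
  let d₀ : Γ(S, V) := V.topIso.hom d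
  let b₀ : Γ(X, f ⁻¹ᵁ V) := h.appLE P (f ⁻¹ᵁ V)
    (by rw [← Scheme.Hom.comp_preimage, Scheme.Hom.toNormalization_fromNormalization]) (P.topIso.hom b)
  have hdd : V.topIso.inv d₀ = d := Iso.hom_inv_id_apply _ _
  have hdu : s ∈ S.basicOpen d₀ := by
    refine (S.evaluation_ne_zero_iff_mem_basicOpen s hsV d₀).1 fun h0 => not_isUnit_zero (M₀ := Γ(Spec (S.residueField s), ⊤)) ?_
    rwa [← hdd, appTop_eq_evaluation hsV hg₀, h0, map_zero] at hd
  let V' := S.basicOpen d₀
  have hle : V' ≤ V := S.basicOpen_le d₀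
  let r : Γ(S, V') := S.presheaf.map (homOfLE hle).op d₀
  have hr : IsUnit r := RingedSpace.isUnit_res_basicOpen S.toLocallyRingedSpace.toRingedSpace d₀
  refine ⟨V', hdu, X.presheaf.map (homOfLE (f.preimage_mono hle)).op b₀ * ↑((hr.map (f.app V').hom).unit⁻¹), ?_⟩
  have hF : ∀ z, (f.fiberι s) z ∈ f ⁻¹ᵁ V' := fun z => by
    have h1 : f ((f.fiberι s) z) = s := (f.range_fiberι s).le ⟨z, rfl⟩
    show f ((f.fiberι s) z) ∈ V'
    rw [h1]; exact hdu
  have hres : ∀ x, (f.fiberι s).app (f ⁻¹ᵁ V') x =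
      (f.fiber s).presheaf.map (homOfLE le_top).op ((f.fiberι s).appLE (f ⁻¹ᵁ V') ⊤ (fun z _ => hF z) x) := fun x => by
    rw [← CommRingCat.comp_apply, Scheme.Hom.appLE_map, Scheme.Hom.app_eq_appLE]
  have hu := (hr.map (f.app V').hom).map ((f.fiberι s).app (f ⁻¹ᵁ V')).hom
  refine hu.mul_left_injective ?_
  show _ * _ = _ * _
  rw [← map_mul, mul_assoc, IsUnit.val_inv_mul, mul_one, hres, hres, ← map_mul]
  refine congrArg _ ?_
  have hPι : ∀ x, P.ι.appLE P ⊤ (fun z _ => z.2) (P.topIso.hom x) = x := fun x => by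
    rw [← CommRingCat.comp_apply, Scheme.Opens.ι_appLE, Scheme.Opens.topIso_hom]
    erw [← Functor.map_comp, CategoryTheory.Functor.map_id]
    rfl
  have hVι : V.ι.appLE V ⊤ (fun z _ => z.2) d₀ = d := by
    show V.ι.appLE V ⊤ _ (V.topIso.hom d) = d
    rw [← CommRingCat.comp_apply, Scheme.Opens.ι_appLE, Scheme.Opens.topIso_hom]
    erw [← Functor.map_comp, CategoryTheory.Functor.map_id]
    rfl
  have hle' : f ⁻¹ᵁ V' ≤ f ⁻¹ᵁ V := f.preimage_mono hle
  have A1 : (f.fiberι s).appLE (f ⁻¹ᵁ V') ⊤ (fun z _ => hF z) (X.presheaf.map (homOfLE hle').op b₀) =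
      hs.appTop (ι₀.appTop b) := by
    rw [← CommRingCat.comp_apply, Scheme.Hom.map_appLE, ← CommRingCat.comp_apply,
      Scheme.Hom.appLE_comp_appLE]
    have e1 : f.fiberι s ≫ h = (hs ≫ ι₀) ≫ P.ι := by rw [Category.assoc, hι₀, pullback.lift_fst]
    simp only [e1]
    rw [← Scheme.Hom.appLE_comp_appLE (hs ≫ ι₀) P.ι P ⊤ ⊤ (fun z _ => z.2) (fun _ _ => trivial),
      CommRingCat.comp_apply, hPι]
    simp [Scheme.Hom.appLE, Scheme.Hom.appTop]
  have A2 : (f.fiberι s).appLE (f ⁻¹ᵁ V') ⊤ (fun z _ => hF z) (f.app V' r) =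
      hs.appTop (ι₀.appTop ((π ∣_ V).appTop d)) := by
    have h1 : f.app V' r = X.presheaf.map (homOfLE hle').op (f.app V d₀) :=
      congr($(f.naturality (homOfLE hle).op) d₀)
    rw [h1, ← CommRingCat.comp_apply, Scheme.Hom.map_appLE, Scheme.Hom.app_eq_appLE, ← CommRingCat.comp_apply,
      Scheme.Hom.appLE_comp_appLE]
    have e2 : f.fiberι s ≫ f = (hs ≫ ι₀ ≫ π ∣_ V) ≫ V.ι := by
      rw [Category.assoc, Category.assoc, morphismRestrict_ι, reassoc_of% hι₀, pullback.lift_fst_assoc,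
        Category.assoc, Scheme.Hom.toNormalization_fromNormalization]
    simp only [e2]
    rw [← Scheme.Hom.appLE_comp_appLE (hs ≫ ι₀ ≫ π ∣_ V) V.ι V ⊤ ⊤ (fun z _ => z.2) (fun _ _ => trivial),
      CommRingCat.comp_apply, hVι]
    simp [Scheme.Hom.appLE, Scheme.Hom.appTop]
  rw [A1, A2, ← he', ← map_mul, hb]

end Groth.Agent.IdemFibre7
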